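import Mathlib

/-! Extension of independent families to linear automorphisms. -/

namespace Cfsg.Agent.Lib.ThreeClosure.Extend

/-- Two linearly independent families of the same index are carried to one another by a linear
automorphism of a finite-dimensional space. -/
theorem exists_equiv_map {K : Type*} [Field K] {V : Type*} [AddCommGroup V] [Module K V]
    [FiniteDimensional K V] {ι : Type*} {u w : ι → V} (hu : LinearIndependent K u)
    (hw : LinearIndependent K w) : ∃ A : V ≃ₗ[K] V, ∀ i, A (u i) = w i := by
  let U := Submodule.span K (Set.range u)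
  let W := Submodule.span K (Set.range w)
  obtain ⟨U', hU⟩ := Submodule.exists_isCompl U
  obtain ⟨W', hW⟩ := Submodule.exists_isCompl W
  let f : U ≃ₗ[K] W := hu.linearCombinationEquiv.symm.trans hw.linearCombinationEquiv
  have h1 := Submodule.finrank_add_eq_of_isCompl hU
  have h2 := Submodule.finrank_add_eq_of_isCompl hW
  have h3 := f.finrank_eq
  let g : U' ≃ₗ[K] W' := LinearEquiv.ofFinrankEq U' W' (by omega)
  refine ⟨(Submodule.prodEquivOfIsCompl U U' hU).symm.trans
    ((f.prodCongr g).trans (Submodule.prodEquivOfIsCompl W W' hW)), fun i => ?_⟩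
  have hfi : f ⟨u i, Submodule.subset_span ⟨i, rfl⟩⟩ = ⟨w i, Submodule.subset_span ⟨i, rfl⟩⟩ := by
    have hs : hu.linearCombinationEquiv.symm ⟨u i, Submodule.subset_span ⟨i, rfl⟩⟩
        = Finsupp.single i (1 : K) := by
      rw [LinearEquiv.symm_apply_eq]
      apply Subtype.ext
      show u i = Finsupp.linearCombination K u (Finsupp.single i (1 : K))
      simp
    show hw.linearCombinationEquiv (hu.linearCombinationEquiv.symm _) = _
    rw [hs]
    apply Subtype.ext
    show Finsupp.linearCombination K w (Finsupp.single i (1 : K)) = w i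
    simp
  simp only [LinearEquiv.trans_apply]
  rw [Submodule.prodEquivOfIsCompl_symm_apply_left U U' hU ⟨u i, Submodule.subset_span ⟨i, rfl⟩⟩]
  simp [LinearEquiv.prodCongr_apply, hfi]

end Cfsg.Agent.Lib.ThreeClosure.Extend
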