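import Mathlib

/-! Functions on a prime field determining few slopes are affine (Rédei–Carlitz). -/

namespace Cfsg.Agent.Lib.ThreeClosure.Slopes

open Polynomial

variable {p : ℕ} [Fact p.Prime]

theorem sum_eval {Q : (ZMod p)[X]} (hQ : Q.natDegree = p - 1) :
    ∑ x : ZMod p, Q.eval x = -Q.leadingCoeff := by
  have hp := (Fact.out : p.Prime).two_le
  simp_rw [eval_eq_sum_range]
  rw [Finset.sum_comm, Finset.sum_range_succ]
  have h0 : ∀ k ∈ Finset.range Q.natDegree, ∑ x : ZMod p, Q.coeff k * x ^ k = 0 := by
    intro k hk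
    rw [← Finset.mul_sum, FiniteField.sum_pow_lt_card_sub_one (ZMod p) k (by
      rw [ZMod.card]; rw [Finset.mem_range] at hk; omega), mul_zero]
  rw [Finset.sum_eq_zero h0, zero_add, ← Finset.mul_sum, hQ]
  have h1 : ∑ x : ZMod p, x ^ (p - 1) = -1 := by
    classical
    rw [← Finset.sum_erase_add _ _ (Finset.mem_univ (0 : ZMod p)), zero_pow (by omega), add_zero,
      Finset.sum_congr rfl (fun x hx => ZMod.pow_card_sub_one_eq_one (Finset.ne_of_mem_erase hx)),
      Finset.sum_const, Finset.card_erase_of_mem (Finset.mem_univ _), Finset.card_univ, ZMod.card,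
      nsmul_one, Nat.cast_sub (by omega), ZMod.natCast_self, Nat.cast_one, zero_sub]
  rw [h1, mul_neg, mul_one, leadingCoeff, hQ]

theorem power_sums_eq_zero (f : ZMod p → ZMod p) (A : Finset (ZMod p))
    (hA : ∀ x y, x ≠ y → (f x - f y) / (x - y) ∈ A) (i j : ℕ) (hk : i + j < p - A.card) (hd : 1 ≤ A.card) :
    ∑ x : ZMod p, f x ^ i * x ^ j = 0 := by
  classical
  set k := i + j with hkdef
  let P : (ZMod p)[X] := ∑ x : ZMod p, (C (f x) + C (-x) * X) ^ k
  have hP : P = 0 := by
    refine eq_zero_of_natDegree_lt_card_of_eval_eq_zero' P (Finset.univ \ A) (fun m hm => ?_) ?_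
    · rw [Finset.mem_sdiff] at hm
      have hinj : Function.Injective fun x => f x + -x * m := by
        intro x y hxy
        by_contra hne
        refine hm.2 ?_
        have : (f x - f y) / (x - y) = m := by
          rw [div_eq_iff (sub_ne_zero.2 hne)]
          simp only at hxy
          linear_combination hxy
        exact this ▸ hA x y hne
      simp only [P, eval_finsetSum, eval_pow, eval_add, eval_C, eval_mul, eval_X]
      rw [(Finite.injective_iff_bijective.1 hinj).sum_comp (fun x : ZMod p => x ^ k),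
        FiniteField.sum_pow_lt_card_sub_one (ZMod p) k (by rw [ZMod.card]; omega)]
    · have h1 : P.natDegree ≤ k := by
        refine natDegree_sum_le_of_forall_le _ _ fun x _ => ?_
        refine natDegree_pow_le.trans ?_
        have : (C (f x) + C (-x) * X).natDegree ≤ 1 := by
          rw [add_comm]; exact natDegree_linear_le
        calc k * _ ≤ k * 1 := Nat.mul_le_mul_left k this
          _ = k := mul_one k
      rw [Finset.card_univ_diff, ZMod.card]
      omega
  have hc := congrArg (fun Q : (ZMod p)[X] => Q.coeff j) hP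
  simp only [P, finsetSum_coeff, coeff_zero] at hc
  have hterm : ∀ x : ZMod p, ((C (f x) + C (-x) * X) ^ k).coeff j =
      ((k.choose j : ℕ) : ZMod p) * (-1) ^ j * (f x ^ i * x ^ j) := by
    intro x
    rw [add_comm, add_pow, finsetSum_coeff, Finset.sum_eq_single j]
    · rw [mul_pow, ← C_pow, ← C_pow, mul_comm (C _) (X ^ j), ← mul_assoc, mul_assoc (X ^ j),
        ← map_mul, mul_comm (X ^ j), ← map_natCast C, coeff_mul_C, coeff_C_mul_X_pow, if_pos rfl,
        show k - j = i by omega]
      ring
    · intro l _ hl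
      rw [mul_pow, ← C_pow, ← C_pow, mul_comm (C _) (X ^ l), mul_assoc (X ^ l), ← map_mul,
        mul_comm (X ^ l), ← map_natCast C, coeff_mul_C, coeff_C_mul_X_pow, if_neg hl.symm, zero_mul]
    · intro h; exact absurd (Finset.mem_range.2 (by omega)) h
  simp only [hterm] at hc
  rw [← Finset.mul_sum] at hc
  refine (mul_eq_zero.1 hc).resolve_left (mul_ne_zero (fun h => ?_) (pow_ne_zero _ (by norm_num)))
  rw [ZMod.natCast_eq_zero_iff] at h
  have hprime := (Fact.out : p.Prime)
  have hdvd : p ∣ k.factorial := by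
    rw [← Nat.choose_mul_factorial_mul_factorial (show j ≤ k by omega), mul_assoc]
    exact h.trans (dvd_mul_right _ _)
  rw [hprime.dvd_factorial] at hdvd
  omega

/-- A function whose slopes lie in a set of at most `(p-1)/2` values is affine. -/
theorem affine_of_slopes (f : ZMod p → ZMod p) (A : Finset (ZMod p))
    (hA : ∀ x y, x ≠ y → (f x - f y) / (x - y) ∈ A) (hd : 2 * A.card ≤ p - 1) :
    ∃ a b : ZMod p, ∀ x, f x = a * x + b := by
  classical
  have hp := (Fact.out : p.Prime)
  have hd1 : 1 ≤ A.card := Finset.card_pos.2 ⟨_, hA 1 0 one_ne_zero⟩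
  let F : (ZMod p)[X] := Lagrange.interpolate Finset.univ id f
  have hinj : Set.InjOn (id : ZMod p → ZMod p) (Finset.univ : Finset (ZMod p)) := fun _ _ _ _ h => h
  have hF : ∀ x, F.eval x = f x := fun x => Lagrange.eval_interpolate_at_node f hinj (Finset.mem_univ x)
  by_cases he : F.natDegree ≤ 1
  · refine ⟨F.coeff 1, F.coeff 0, fun x => ?_⟩
    rw [← hF x]
    conv_lhs => rw [Polynomial.eq_X_add_C_of_natDegree_le_one he]
    simp
  exfalso
  have hF0 : F ≠ 0 := fun h => he (by simp [h])
  set e := F.natDegree with hedef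
  have helt : e < p := by
    have := Lagrange.degree_interpolate_lt f hinj
    rw [Finset.card_univ, ZMod.card] at this
    exact (natDegree_lt_iff_degree_lt hF0).2 this
  have key : ∀ i j, i + j < p - A.card → i * e + j = p - 1 → False := by
    intro i j hij hdeg
    have h := power_sums_eq_zero f A hA i j hij hd1
    have hQ : (F ^ i * X ^ j).natDegree = p - 1 := by
      rw [natDegree_mul (pow_ne_zero _ hF0) (pow_ne_zero _ X_ne_zero), natDegree_pow, natDegree_X_pow]
      exact hdeg
    have h2 := sum_eval hQ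
    simp only [eval_mul, eval_pow, eval_X, hF] at h2
    rw [h] at h2
    simp only [leadingCoeff_mul, leadingCoeff_pow, leadingCoeff_X, one_pow, mul_one] at h2
    exact pow_ne_zero i (leadingCoeff_ne_zero.2 hF0) (neg_eq_zero.1 h2.symm)
  rcases Nat.lt_or_ge A.card e with h | h
  · exact key 1 (p - 1 - e) (by omega) (by omega)
  · have hr := Nat.mod_lt (p - 1) (show 0 < e by omega)
    have hdiv := Nat.div_add_mod (p - 1) e
    have hi2 : 2 ≤ (p - 1) / e := (Nat.le_div_iff_mul_le (by omega)).2 (by omega)
    set i := (p - 1) / e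
    set r := (p - 1) % e
    refine key i r ?_ (by rw [mul_comm]; exact hdiv)
    suffices 2 * (i + r) ≤ p - 1 by omega
    rcases Nat.lt_or_ge e 3 with he3 | he3
    · have he2 : e = 2 := by omega
      rw [he2] at hdiv hr
      have hodd : Odd p := hp.odd_of_ne_two (by omega)
      obtain ⟨t, ht⟩ := hodd
      omega
    · have h1 : r ≤ 2 * (e - 2) := by omega
      have h2 : 2 * (e - 2) ≤ i * (e - 2) := Nat.mul_le_mul_right _ hi2
      obtain ⟨u, hu⟩ : ∃ u, e = u + 2 := ⟨e - 2, by omega⟩
      rw [hu] at hdiv h1 h2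
      rw [Nat.add_sub_cancel] at h1 h2
      rw [Nat.add_mul, mul_comm u i] at hdiv
      omega

end Cfsg.Agent.Lib.ThreeClosure.Slopes
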